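import Groth.Agent.TorsClosureLib.Section
import Groth.Agent.PrincBundLib.Reduction
import Groth.Agent.PrincBundLib.Invariant
import Groth.Agent.FinGrpdLib.EqvQuot
import Groth.Agent.ChevAffine.Finite
import Groth.Agent.S12837
import Groth.Agent.S18860
import Groth.Agent.S14008

/-!
# The closure of a generic sub-torsor
-/

set_option linter.all false
set_option autoImplicit false
set_option backward.isDefEq.respectTransparency false
set_option maxHeartbeats 1000000

universe u

open CategoryTheory CategoryTheory.Limits MonoidalCategory CartesianMonoidalCategory MonObj AlgebraicGeometry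
open Groth.Agent.PrincBundLib

noncomputable section

namespace Groth.Agent.TorsClosure

variable {X : Scheme.{u}}

/-- Transport of an action along an isomorphism. -/
def transportAct {G Z Z' : Over X} [GrpObj G] (b : AlgGrp.Action G Z') (e : Z ≅ Z') : AlgGrp.Action G Z where
  act := (G ◁ e.hom) ≫ b.act ≫ e.inv
  one_act := by
    rw [← whisker_exchange_assoc, ← Category.assoc (η[G] ▷ Z'), b.one_act, leftUnitor_naturality_assoc, e.hom_inv_id,
      Category.comp_id]
  mul_act := by
    apply AlgGrp.Action.hom_ext_lift₃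
    intro T g g' x
    simp only [lift_whiskerRight_assoc, lift_lift_associator_hom_assoc, lift_whiskerLeft_assoc, ← Hom.mul_def,
      Category.assoc, e.inv_hom_id_assoc]
    rw [← Category.assoc (lift (g * g') _), AlgGrp.Action.lift_mul_act]
    simp only [Category.assoc, e.inv_hom_id_assoc, e.inv_hom_id, Category.comp_id]

theorem isTorsorFor_transportAct {G Z Z' : Over X} [GrpObj G] (b : AlgGrp.Action G Z') (e : Z ≅ Z')
    {K : Precoverage Scheme.{u}} (h : NonAbH1.IsTorsorFor K b) : NonAbH1.IsTorsorFor K (transportAct b e) := by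
  refine ⟨(isIso_lift_snd_iff _).mpr fun T x w => ?_, ?_⟩
  · obtain ⟨g, hg, hu⟩ := (isIso_lift_snd_iff b.act).mp h.1 T (x ≫ e.hom) (w ≫ e.hom)
    refine ⟨g, ?_, fun g' hg' => hu g' ?_⟩
    · show lift g w ≫ (G ◁ e.hom) ≫ b.act ≫ e.inv = x
      rw [lift_whiskerLeft_assoc, ← Category.assoc, hg, Category.assoc, e.hom_inv_id, Category.comp_id]
    · change lift g' w ≫ (G ◁ e.hom) ≫ b.act ≫ e.inv = x at hg'
      rw [lift_whiskerLeft_assoc] at hg'
      show lift g' (w ≫ e.hom) ≫ b.act = x ≫ e.hom
      rw [← hg', Category.assoc, Category.assoc, e.inv_hom_id, Category.comp_id]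
  · obtain ⟨R, hR, hs⟩ := h.2
    refine ⟨R, hR, fun S' f hf => ?_⟩
    obtain ⟨s, hs⟩ := hs f hf
    exact ⟨s ≫ e.inv.left, by rw [Category.assoc, Over.w]; exact hs⟩

section Points

variable {E : Scheme.{u}} (e : E ⟶ X) {H P Z : Over X} [GrpObj H] (a : AlgGrp.Action H P) (j : Z ⟶ P)
  (bη : AlgGrp.Action (Red.bc e H) (Red.bc e Z))
  (hj : AlgGrp.Action.IsEquivariant bη (a.bc e) ((Over.pullback e).map j))

include hj in
theorem invariant_of_equivariant {M : Over X} (q : P ⟶ M) (hq : a.act ≫ q = snd H P ≫ q) :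
    bη.act ≫ (Over.pullback e).map (j ≫ q) =
      snd (Red.bc e H) (Red.bc e Z) ≫ (Over.pullback e).map (j ≫ q) := by
  rw [Functor.map_comp, ← Category.assoc, hj]
  show ((_ ◁ _) ≫ Functor.LaxMonoidal.μ (Over.pullback e) H P ≫ (Over.pullback e).map a.act) ≫ _ = _
  simp only [Category.assoc]
  rw [← Functor.map_comp, hq, Functor.map_comp, Functor.Monoidal.μ_snd_assoc, whiskerLeft_snd_assoc]

include hj in
/-- Points of the generic fibre moved by the group stay in the closed subscheme. -/
theorem exists_point {T : Over E} (g : (Over.map e).obj T ⟶ H) (z : (Over.map e).obj T ⟶ Z)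
    (p : (Over.map e).obj T ⟶ P) (hp : lift g (z ≫ j) ≫ a.act = p) :
    ∃ w : (Over.map e).obj T ⟶ Z, w ≫ j = p := by
  let hE := fun (W : Over X) => (Over.mapPullbackAdj e).homEquiv T W
  let w : T ⟶ (Over.pullback e).obj Z := lift (hE H g) (hE Z z) ≫ bη.act
  have hlift : lift (hE H g) (hE P (z ≫ j)) ≫ Functor.LaxMonoidal.μ (Over.pullback e) H P = hE _ (lift g (z ≫ j)) := by
    rw [← cancel_mono (Functor.Monoidal.μIso (Over.pullback e) H P).inv]
    simp only [Category.assoc, Functor.Monoidal.μIso_inv, Functor.Monoidal.μ_δ, Category.comp_id]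
    apply CartesianMonoidalCategory.hom_ext
    · rw [lift_fst, Category.assoc, Functor.OplaxMonoidal.δ_fst, ← Adjunction.homEquiv_naturality_right, lift_fst]
    · rw [lift_snd, Category.assoc, Functor.OplaxMonoidal.δ_snd, ← Adjunction.homEquiv_naturality_right, lift_snd]
  refine ⟨(hE Z).symm w, ?_⟩
  rw [← Adjunction.homEquiv_naturality_right_symm, Equiv.symm_apply_eq]
  show (lift (hE H g) (hE Z z) ≫ bη.act) ≫ (Over.pullback e).map j = _
  rw [Category.assoc, hj, lift_whiskerLeft_assoc]
  show lift (hE H g) (hE Z z ≫ (Over.pullback e).map j) ≫ Functor.LaxMonoidal.μ (Over.pullback e) H P ≫ _ = _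
  rw [← Adjunction.homEquiv_naturality_right, ← Category.assoc, hlift, ← Adjunction.homEquiv_naturality_right, hp]

end Points

theorem isIntegralHom_of_finite_cover {P M : Over X} (q : P ⟶ M) [IsFinite q.left] [Surjective q.left]
    [IsFinite P.hom] : IsIntegralHom M.hom := by
  haveI : IsFinite (q.left ≫ M.hom) := by rw [Over.w]; infer_instance
  haveI : IsSeparated M.hom :=
    (Groth.Agent.FinGrpdLib.isSeparated_of_finite_surjective q.left M.hom).1 inferInstance
  haveI : UniversallyClosed (q.left ≫ M.hom) := inferInstance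
  haveI : UniversallyClosed M.hom := UniversallyClosed.of_comp_surjective q.left M.hom
  haveI : IsAffineHom M.hom := ⟨fun U hU => by
    haveI : IsAffine (q.left ⁻¹ᵁ (M.hom ⁻¹ᵁ U)).toScheme := by
      show IsAffineOpen (q.left ⁻¹ᵁ (M.hom ⁻¹ᵁ U))
      rw [← Scheme.Hom.comp_preimage, Over.w]
      exact hU.preimage P.hom
    haveI : IsFinite (q.left ∣_ (M.hom ⁻¹ᵁ U)) := IsZariskiLocalAtTarget.restrict (P := @IsFinite) inferInstance _
    haveI : Surjective (q.left ∣_ (M.hom ⁻¹ᵁ U)) := IsZariskiLocalAtTarget.restrict (P := @Surjective) inferInstance _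
    haveI : CompactSpace (M.hom ⁻¹ᵁ U).toScheme :=
      (q.left ∣_ (M.hom ⁻¹ᵁ U)).surjective.compactSpace (q.left ∣_ (M.hom ⁻¹ᵁ U)).continuous
    haveI : IsAffine U.toScheme := hU
    haveI : IsSeparated (M.hom ∣_ U) := IsZariskiLocalAtTarget.restrict (P := @IsSeparated) inferInstance _
    haveI : QuasiSeparatedSpace (M.hom ⁻¹ᵁ U).toScheme := quasiSeparatedSpace_of_quasiSeparated (M.hom ∣_ U)
    exact Groth.Agent.ChevAffine.isAffine_of_finite_surjective (q.left ∣_ (M.hom ⁻¹ᵁ U))⟩
  exact IsIntegralHom.iff_universallyClosed_and_isAffineHom.2 ⟨inferInstance, inferInstance⟩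

variable {R : Type u} [CommRing R] [IsDomain R] [IsDiscreteValuationRing R]

/-- The flat closure of a generic sub-torsor is a sub-torsor. -/
theorem exists_action (f : X ⟶ Spec (CommRingCat.of R)) [Flat f]
    [AlgebraicGeometry.IsReduced (pullback f (Spec.map (CommRingCat.ofHom (IsLocalRing.residue R))))]
    {H : Over X} [GrpObj H] [IsFinite H.hom] [Flat H.hom] [LocallyOfFinitePresentation H.hom]
    {P : Over X} [IsFinite P.hom] (a : AlgGrp.Action H P)
    (hfree : ∀ (T : Over X) (g : T ⟶ H) (x : T ⟶ P), lift g x ≫ a.act = x → g = toUnit T ≫ η[H])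
    {Z : Over X} (j : Z ⟶ P) [IsClosedImmersion j.left] [Flat (Z.hom ≫ f)]
    (bη : AlgGrp.Action (Red.bc (pullback.fst f (eK R)) H) (Red.bc (pullback.fst f (eK R)) Z))
    (hj : AlgGrp.Action.IsEquivariant bη (a.bc (pullback.fst f (eK R))) ((Over.pullback (pullback.fst f (eK R))).map j))
    (hZ : NonAbH1.IsTorsorFor Scheme.fpqcPrecoverage bη) :
    ∃ b : AlgGrp.Action H Z, AlgGrp.Action.IsEquivariant b a j ∧
      NonAbH1.IsTorsorFor Scheme.fpqcPrecoverage b := by
  let eX := pullback.fst f (eK R)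
  -- the quotient
  haveI hs1 : IsFinite (snd H P).left := MorphismProperty.pullback_snd (P := @IsFinite) _ _ ‹IsFinite H.hom›
  haveI hs2 : Flat (snd H P).left := MorphismProperty.pullback_snd (P := @Flat) _ _ ‹Flat H.hom›
  haveI hs3 : LocallyOfFinitePresentation (snd H P).left :=
    MorphismProperty.pullback_snd (P := @LocallyOfFinitePresentation) _ _ ‹LocallyOfFinitePresentation H.hom›
  obtain ⟨M, q, ⟨hq1, hq2, hq3⟩, hqpb, hqs, -⟩ :=
    Groth.Agent.FinGrpdLib.exists_quotient_of_isEqvRel (Groth.Agent.FinGrpdLib.isEqvRel_of_free a hfree) (fun x => by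
      obtain ⟨U, hU, hxU, -⟩ := exists_isAffineOpen_mem_and_subset (U := (⊤ : X.Opens))
        (show P.hom x ∈ (⊤ : X.Opens) from trivial)
      refine ⟨P.hom ⁻¹ᵁ U, hU.preimage P.hom, fun r hr => ?_⟩
      show P.hom (a.act.left r) ∈ U
      rw [← Scheme.Hom.comp_apply, Over.w, ← Over.w (snd H P), Scheme.Hom.comp_apply, hr]
      exact hxU)
  have hsq : IsPullback a.act (snd H P) q q :=
    IsPullback.of_map (Over.forget X) (Over.OverMorphism.ext hqpb.w) hqpb
  haveI := hq1
  haveI := hq2
  haveI := hqs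
  haveI : IsIntegralHom M.hom := isIntegralHom_of_finite_cover q
  haveI : IsSeparated M.hom := inferInstance
  -- the generic section
  obtain ⟨s, hs, -⟩ := existsUnique_invariant bη hZ ((Over.pullback eX).map (j ≫ q))
    (invariant_of_equivariant eX a j bη hj q hsq.w)
  let σ0 : pullback f (eK R) ⟶ M.left := s.left ≫ pullback.fst M.hom eX
  have hσ0 : σ0 ≫ M.hom = eX := by
    show (s.left ≫ pullback.fst M.hom eX) ≫ M.hom = eX
    rw [Category.assoc, pullback.condition, ← Category.assoc]
    have h1 : s.left ≫ pullback.snd M.hom eX = 𝟙 _ := Over.w s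
    rw [h1, Category.id_comp]
  have hD : pullback.fst Z.hom eX ≫ j.left ≫ q.left = pullback.snd Z.hom eX ≫ σ0 := by
    have h1 := congrArg (fun t => t.left ≫ pullback.fst M.hom eX) hs
    have h2 : (toUnit (Red.bc eX Z)).left = pullback.snd Z.hom eX :=
      (Category.comp_id _).symm.trans (Over.w (toUnit (Red.bc eX Z)))
    have h3 : ((Over.pullback eX).map (j ≫ q)).left ≫ pullback.fst M.hom eX =
        pullback.fst Z.hom eX ≫ (j ≫ q).left := pullback.lift_fst _ _ _
    simp only [Over.comp_left, Category.assoc] at h1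
    rw [h2] at h1
    rw [← Over.comp_left, ← h3]
    exact h1.symm
  obtain ⟨σ, hσm, hσ0'⟩ := exists_section f M.hom σ0 hσ0
  let σu : 𝟙_ (Over X) ⟶ M := Over.homMk σ hσm
  -- the torsor over the section
  let Z2 : Over X := pullback q σu
  let k : Z2 ⟶ P := pullback.fst q σu
  let b2 : AlgGrp.Action H Z2 := pullAct a q hsq σu
  have hkpb : IsPullback k.left Z2.hom q.left σ := by
    have h1 := (IsPullback.of_hasPullback q σu).map (Over.forget X)
    have h2 : (pullback.snd q σu).left = Z2.hom :=
      (Category.comp_id _).symm.trans (Over.w (pullback.snd q σu))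
    rw [← h2]
    exact h1
  haveI : IsClosedImmersion σ := by
    haveI : IsClosedImmersion (σ ≫ M.hom) := by rw [hσm]; infer_instance
    exact IsClosedImmersion.of_comp σ M.hom
  haveI hk : IsClosedImmersion k.left := MorphismProperty.of_isPullback hkpb.flip ‹IsClosedImmersion σ›
  haveI : IsFinite Z2.hom := MorphismProperty.of_isPullback hkpb hq1
  haveI : Flat Z2.hom := MorphismProperty.of_isPullback hkpb hq2
  haveI : Surjective Z2.hom := MorphismProperty.of_isPullback hkpb hqs
  have hb2 : NonAbH1.IsTorsorFor Scheme.fpqcPrecoverage b2 := by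
    refine ⟨isPseudoTorsor_pullAct a q hsq σu, _, Z2.hom.singleton_mem_fpqcPrecoverage, ?_⟩
    rintro S' g ⟨⟩
    exact ⟨𝟙 _, Category.id_comp _⟩
  -- the generic fibres agree
  haveI : IsIso (pullback.fst j.left k.left) := by
    let u : pullback (Z.hom ≫ f) (eK R) ⟶ pullback Z.hom eX :=
      pullback.lift (pullback.fst _ _)
        (pullback.lift (pullback.fst _ _ ≫ Z.hom) (pullback.snd _ _) (by rw [Category.assoc]; exact pullback.condition))
        (by rw [pullback.lift_fst])
    have hu1 : u ≫ pullback.fst Z.hom eX = pullback.fst _ _ := pullback.lift_fst _ _ _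
    have hcond : (pullback.fst (Z.hom ≫ f) (eK R) ≫ j.left) ≫ q.left =
        (pullback.fst (Z.hom ≫ f) (eK R) ≫ Z.hom) ≫ σ := by
      rw [Category.assoc, ← hu1, Category.assoc, hD, ← hσ0']
      simp only [Category.assoc]
      rw [pullback.condition_assoc]
    refine isIso_of_generic (Z.hom ≫ f) _ (pullback.lift (pullback.fst _ _) (hkpb.lift _ _ hcond)
      (hkpb.lift_fst _ _ hcond).symm) (pullback.lift_fst _ _ _)
  haveI : IsIso (pullback.snd j.left k.left) := by
    let T0 := pullback (Z2.hom ≫ f) (eK R)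
    let t : T0 ⟶ pullback f (eK R) :=
      pullback.lift (pullback.fst _ _ ≫ Z2.hom) (pullback.snd _ _) (by rw [Category.assoc]; exact pullback.condition)
    let p : T0 ⟶ P.left := pullback.fst _ _ ≫ k.left
    have ht : t ≫ eX = pullback.fst _ _ ≫ Z2.hom := pullback.lift_fst _ _ _
    have hp : p ≫ P.hom = t ≫ eX := by
      rw [ht]
      show (_ ≫ k.left) ≫ P.hom = _
      rw [Category.assoc, Over.w]
    have hpq : p ≫ q.left = t ≫ σ0 := by
      rw [← hσ0', ← Category.assoc t, ht]
      show (_ ≫ k.left) ≫ q.left = _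
      rw [Category.assoc, Category.assoc, hkpb.w]
    let T' := pullback t (Red.bc eX Z).hom
    let q0 : T' ⟶ T0 := pullback.fst _ _
    haveI : IsFinite (Red.bc eX H).hom := MorphismProperty.pullback_snd (P := @IsFinite) _ _ ‹IsFinite H.hom›
    haveI : Flat (Red.bc eX H).hom := MorphismProperty.pullback_snd (P := @Flat) _ _ ‹Flat H.hom›
    haveI : IsFinite (Red.bc eX Z).hom := (Groth.Agent.S18860.result bη hZ).2.2.1 inferInstance
    haveI : Flat (Red.bc eX Z).hom := property_of_torsor @Flat bη hZ inferInstance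
    haveI : Surjective (Red.bc eX Z).hom :=
      property_of_torsor @Surjective bη hZ (Groth.Agent.S12837.surj_of_grp _)
    haveI : Flat q0 := MorphismProperty.pullback_fst (P := @Flat) _ _ ‹Flat (Red.bc eX Z).hom›
    haveI : Surjective q0 := MorphismProperty.pullback_fst (P := @Surjective) _ _ ‹Surjective (Red.bc eX Z).hom›
    haveI : IsFinite q0 := MorphismProperty.pullback_fst (P := @IsFinite) _ _ ‹IsFinite (Red.bc eX Z).hom›
    let Tη : Over (pullback f (eK R)) := Over.mk (q0 ≫ t)
    let zT : (Over.map eX).obj Tη ⟶ Z := Over.homMk (pullback.snd t (Red.bc eX Z).hom ≫ pullback.fst Z.hom eX) (by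
      show (_ ≫ pullback.fst Z.hom eX) ≫ Z.hom = (q0 ≫ t) ≫ eX
      rw [Category.assoc, pullback.condition]
      show pullback.snd t (Red.bc eX Z).hom ≫ (Red.bc eX Z).hom ≫ eX = (q0 ≫ t) ≫ eX
      rw [← Category.assoc, ← pullback.condition])
    let pT : (Over.map eX).obj Tη ⟶ P := Over.homMk (q0 ≫ p) (by
      show (q0 ≫ p) ≫ P.hom = (q0 ≫ t) ≫ eX
      rw [Category.assoc, hp, Category.assoc])
    have hzp : pT ≫ q = (zT ≫ j) ≫ q := by
      refine Over.OverMorphism.ext ?_
      show (q0 ≫ p) ≫ q.left = ((pullback.snd t (Red.bc eX Z).hom ≫ pullback.fst Z.hom eX) ≫ j.left) ≫ q.left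
      simp only [Category.assoc]
      rw [hpq, hD]
      show q0 ≫ t ≫ σ0 = pullback.snd t (Red.bc eX Z).hom ≫ (Red.bc eX Z).hom ≫ σ0
      rw [← Category.assoc, pullback.condition, Category.assoc]
    obtain ⟨g, hg⟩ := exists_act a q hsq pT (zT ≫ j) hzp
    obtain ⟨w, hw⟩ := exists_point eX a j bη hj g zT pT hg
    have hwl : w.left ≫ j.left = q0 ≫ p := congrArg CommaMorphism.left hw
    -- descend the factorisation
    let c := pullback.snd j.left p
    haveI : IsClosedImmersion c := MorphismProperty.pullback_snd (P := @IsClosedImmersion) _ _ ‹_›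
    haveI : IsClosedImmersion (pullback.snd c q0) :=
      MorphismProperty.pullback_snd (P := @IsClosedImmersion) _ _ ‹IsClosedImmersion c›
    haveI : IsSplitEpi (pullback.snd c q0) :=
      IsSplitEpi.mk' ⟨pullback.lift (pullback.lift w.left q0 hwl) (𝟙 _) (by rw [pullback.lift_snd, Category.id_comp]),
        pullback.lift_snd _ _ _⟩
    haveI : IsIso (pullback.snd c q0) := isIso_of_mono_of_isSplitEpi _
    haveI : IsIso c := MorphismProperty.of_isPullback_of_descendsAlong
      (P := MorphismProperty.isomorphisms Scheme.{u}) (Q := @Surjective ⊓ @Flat ⊓ @QuasiCompact)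
      (IsPullback.of_hasPullback c q0).flip ⟨⟨inferInstance, inferInstance⟩, inferInstance⟩
      ‹IsIso (pullback.snd c q0)›
    refine isIso_of_generic (Z2.hom ≫ f) _ (pullback.lift (inv c ≫ pullback.fst j.left p) (pullback.fst _ _) ?_)
      (pullback.lift_snd _ _ _)
    rw [Category.assoc, pullback.condition, IsIso.inv_hom_id_assoc]
  let e0 : Z.left ≅ Z2.left := (asIso (pullback.fst j.left k.left)).symm ≪≫ asIso (pullback.snd j.left k.left)
  have hek : e0.hom ≫ k.left = j.left := by
    simp only [e0, Iso.trans_hom, Iso.symm_hom, asIso_hom, asIso_inv, Category.assoc]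
    rw [← pullback.condition, IsIso.inv_hom_id_assoc]
  let e : Z ≅ Z2 := Over.isoMk e0 (by rw [← Over.w k, ← Category.assoc, hek, Over.w])
  refine ⟨transportAct b2 e, ?_, isTorsorFor_transportAct b2 e hb2⟩
  have hej : e.inv ≫ j = k := by
    rw [Iso.inv_comp_eq]
    exact (Over.OverMorphism.ext hek).symm
  show ((H ◁ e.hom) ≫ b2.act ≫ e.inv) ≫ j = (H ◁ j) ≫ a.act
  rw [Category.assoc, Category.assoc, hej, pullAct_fst, ← whiskerLeft_comp_assoc]
  congr 2
  exact Over.OverMorphism.ext hek

end Groth.Agent.TorsClosure
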