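import Mathlib
import Groth.Agent.PrincBundLib.Generic

/-!
# Closed subschemes and sections over a discrete valuation ring, determined generically
-/

set_option linter.all false
set_option autoImplicit false
set_option backward.isDefEq.respectTransparency false
set_option maxHeartbeats 1000000

universe u

open CategoryTheory CategoryTheory.Limits AlgebraicGeometry
open scoped TensorProduct

noncomputable section

namespace Groth.Agent.TorsClosure

section Alg

variable (R : Type u) [CommRing R] [IsDomain R] [IsDiscreteValuationRing R]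
  (A : Type u) [CommRing A] [Algebra R A] [Module.Flat R A]

abbrev AK : Type u := A ⊗[R] FractionRing R

abbrev inc : A →+* AK R A := Algebra.TensorProduct.includeLeftRingHom

theorem inc_injective : Function.Injective (inc R A) :=
  Algebra.TensorProduct.includeLeft_injective (S := R) (IsFractionRing.injective R (FractionRing R))

theorem isUnit_inc {ϖ : R} (hϖ : ϖ ≠ 0) : IsUnit (inc R A (algebraMap R A ϖ)) := by
  have h : IsUnit (algebraMap R (FractionRing R) ϖ) :=
    isUnit_iff_ne_zero.2 ((map_ne_zero_iff _ (IsFractionRing.injective R (FractionRing R))).2 hϖ)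
  have e : inc R A (algebraMap R A ϖ) =
      (Algebra.TensorProduct.includeRight (R := R) (A := A) (B := FractionRing R))
        (algebraMap R (FractionRing R) ϖ) := by
    rw [AlgHom.commutes]; rfl
  rw [e]; exact h.map _

theorem exists_pow_mul_eq {ϖ : R} (hϖ : Irreducible ϖ) (y : AK R A) :
    ∃ (n : ℕ) (a : A), inc R A (algebraMap R A ϖ) ^ n * y = inc R A a := by
  induction y using TensorProduct.induction_on with
  | zero => exact ⟨0, 0, by simp⟩
  | tmul a q =>
      obtain ⟨r, s, hs, rfl⟩ := IsFractionRing.div_surjective (A := R) (K := FractionRing R) q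
      obtain ⟨n, v, rfl⟩ := IsDiscreteValuationRing.eq_unit_mul_pow_irreducible (nonZeroDivisors.ne_zero hs) hϖ
      refine ⟨n, algebraMap R A ((↑v⁻¹ : R) * r) * a, ?_⟩
      have hne : algebraMap R (FractionRing R) ((v : R) * ϖ ^ n) ≠ 0 :=
        (map_ne_zero_iff _ (IsFractionRing.injective R (FractionRing R))).2 (nonZeroDivisors.ne_zero hs)
      rw [← map_pow, ← map_pow]
      show (algebraMap R A (ϖ ^ n)) ⊗ₜ[R] (1 : FractionRing R) * a ⊗ₜ[R] _ = (algebraMap R A _ * a) ⊗ₜ[R] (1 : FractionRing R)
      rw [Algebra.TensorProduct.tmul_mul_tmul, one_mul, ← Algebra.smul_def, ← Algebra.smul_def, TensorProduct.smul_tmul,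
        TensorProduct.smul_tmul]
      congr 1
      rw [Algebra.smul_def, Algebra.smul_def, mul_one, mul_div_assoc', div_eq_iff hne, ← map_mul, ← map_mul]
      congr 1
      linear_combination (ϖ ^ n * r) * (Units.inv_mul v).symm
  | add x y hx hy =>
      obtain ⟨n, a, ha⟩ := hx
      obtain ⟨m, b, hb⟩ := hy
      refine ⟨n + m, algebraMap R A ϖ ^ m * a + algebraMap R A ϖ ^ n * b, ?_⟩
      rw [map_add, map_mul, map_mul, map_pow, map_pow, ← ha, ← hb]
      ring

/-- Integral elements of the generic localization lie in the ring when the special fibre is reduced. -/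
theorem mem_range_of_isIntegral {ϖ : R} (hϖ : Irreducible ϖ)
    (hred : IsReduced (A ⧸ Ideal.span {algebraMap R A ϖ})) (y : AK R A)
    (hy : (inc R A).IsIntegralElem y) : y ∈ Set.range (inc R A) := by
  obtain ⟨n, a, ha⟩ := exists_pow_mul_eq R A hϖ y
  set p := inc R A (algebraMap R A ϖ) with hp
  induction n generalizing y a with
  | zero => exact ⟨a, by rw [pow_zero, one_mul] at ha; exact ha.symm⟩
  | succ n ih =>
      have hpint : (inc R A).IsIntegralElem (p ^ n) := by
        rw [hp, ← map_pow]; exact (inc R A).isIntegralElem_map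
      obtain ⟨Q, hQ, hQz⟩ := RingHom.IsIntegralElem.mul _ hpint hy
      have hroot : (Q.scaleRoots (algebraMap R A ϖ)).eval a = 0 := by
        apply inc_injective R A
        rw [map_zero, ← Polynomial.eval₂_at_apply, ← ha, pow_succ']
        rw [mul_assoc]
        exact Polynomial.scaleRoots_eval₂_eq_zero (inc R A) hQz
      obtain ⟨a', rfl⟩ : algebraMap R A ϖ ∣ a := by
        rw [← Ideal.mem_span_singleton, ← Ideal.Quotient.eq_zero_iff_mem]
        set π := Ideal.Quotient.mk (Ideal.span {algebraMap R A ϖ})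
        rcases subsingleton_or_nontrivial (A ⧸ Ideal.span {algebraMap R A ϖ}) with hs | hn
        · exact Subsingleton.elim _ _
        have h0 := congrArg π hroot
        rw [map_zero, ← Polynomial.eval_map_apply, Polynomial.map_scaleRoots _ _ _ (by simp [hQ.leadingCoeff]),
          show π (algebraMap R A ϖ) = 0 from Ideal.Quotient.eq_zero_iff_mem.2 (Ideal.mem_span_singleton_self _),
          Polynomial.scaleRoots_zero, (hQ.map π).leadingCoeff, one_smul, Polynomial.eval_pow, Polynomial.eval_X] at h0
        exact IsReduced.eq_zero _ ⟨_, h0⟩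
      refine ih y hy a' ?_
      have hu : IsUnit p := isUnit_inc R A hϖ.ne_zero
      apply hu.mul_left_cancel
      rw [← mul_assoc, ← pow_succ', ha, map_mul, ← hp]

end Alg

variable {R : Type u} [CommRing R] [IsDomain R] [IsDiscreteValuationRing R]

/-- The generic point map. -/
abbrev eK (R : Type u) [CommRing R] [IsDomain R] : Spec (CommRingCat.of (FractionRing R)) ⟶ Spec (CommRingCat.of R) :=
  Spec.map (CommRingCat.ofHom (algebraMap R (FractionRing R)))

/-- A closed immersion into a flat scheme through which the generic fibre factors is an isomorphism. -/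
theorem isIso_of_generic {W W' : Scheme.{u}} (w : W ⟶ Spec (CommRingCat.of R)) [Flat w]
    (c : W' ⟶ W) [IsClosedImmersion c] (l : pullback w (eK R) ⟶ W') (hl : l ≫ c = pullback.fst _ _) :
    IsIso c := by
  let 𝒰 := W.affineOpenCover
  refine IsZariskiLocalAtTarget.of_openCover (P := MorphismProperty.isomorphisms Scheme.{u}) 𝒰.openCover fun i => ?_
  show IsIso (pullback.snd c (𝒰.f i))
  let A := 𝒰.X i
  let j : Spec A ⟶ W := 𝒰.f i
  obtain ⟨φ, hφ⟩ := Spec.map_surjective (j ≫ w)
  letI : Algebra R A := φ.hom.toAlgebra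
  haveI : Module.Flat R A := by
    have h1 : Flat (Spec.map φ) := by rw [hφ]; infer_instance
    exact RingHom.flat_algebraMap_iff.mp ((HasRingHomProperty.Spec_iff (P := @Flat)).mp h1)
  let incS : Spec (CommRingCat.of (A ⊗[R] FractionRing R)) ⟶ Spec A :=
    Spec.map (CommRingCat.ofHom (inc R A))
  let l0 : Spec (CommRingCat.of (A ⊗[R] FractionRing R)) ⟶ pullback w (eK R) :=
    pullback.lift (incS ≫ j) (Spec.map (CommRingCat.ofHom
      (Algebra.TensorProduct.includeRight (R := R) (A := A) (B := FractionRing R)).toRingHom)) (by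
        rw [Category.assoc, ← hφ, ← Spec.map_comp, ← Spec.map_comp]
        congr 1
        ext r
        exact ((Algebra.TensorProduct.includeRight (R := R) (A := A) (B := FractionRing R)).commutes r).symm)
  let l' : Spec (CommRingCat.of (A ⊗[R] FractionRing R)) ⟶ pullback c j :=
    pullback.lift (l0 ≫ l) incS (by rw [Category.assoc, hl, pullback.lift_fst])
  have hl' : l' ≫ pullback.snd c j = incS := pullback.lift_snd _ _ _
  refine IsClosedImmersion.isIso_of_injective_of_isAffine (f := pullback.snd c j) ?_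
  intro a b hab
  have h2 := Scheme.ΓSpecIso_inv_naturality (CommRingCat.ofHom (inc R A))
  have hinj : Function.Injective incS.appTop := by
    intro a b hab
    obtain ⟨a, rfl⟩ := (ConcreteCategory.bijective_of_isIso (Scheme.ΓSpecIso A).inv).2 a
    obtain ⟨b, rfl⟩ := (ConcreteCategory.bijective_of_isIso (Scheme.ΓSpecIso A).inv).2 b
    refine congrArg _ (inc_injective R A ?_)
    apply (ConcreteCategory.bijective_of_isIso (Scheme.ΓSpecIso (CommRingCat.of (A ⊗[R] FractionRing R))).inv).1
    exact ((congr($h2 a)).trans hab).trans (congr($h2 b)).symm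
  apply hinj
  rw [← hl', Scheme.Hom.comp_appTop]
  exact congrArg l'.appTop hab

/-- Morphisms over the base into a separated scheme which agree generically. -/
theorem eq_of_generic {T M X : Scheme.{u}} (t : T ⟶ Spec (CommRingCat.of R)) [Flat t]
    (m : M ⟶ X) [IsSeparated m] (f g : T ⟶ M) (h : f ≫ m = g ≫ m)
    (hfg : pullback.fst t (eK R) ≫ f = pullback.fst t (eK R) ≫ g) : f = g := by
  let T' : Over X := Over.mk (f ≫ m)
  let M' : Over X := Over.mk m
  let f' : T' ⟶ M' := Over.homMk f
  let g' : T' ⟶ M' := Over.homMk g h.symm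
  let j' : Over.mk (pullback.fst t (eK R) ≫ f ≫ m) ⟶ T' := Over.homMk (pullback.fst t (eK R))
  haveI : IsSeparated M'.hom := ‹_›
  let e := (equalizer.ι f' g').left
  let l := (equalizer.lift j' (Over.OverMorphism.ext hfg) : _ ⟶ equalizer f' g').left
  have hl : l ≫ e = pullback.fst t (eK R) := by
    show ((equalizer.lift j' _ : _ ⟶ equalizer f' g') ≫ equalizer.ι f' g').left = _
    rw [equalizer.lift_ι]; rfl
  haveI : IsIso e := isIso_of_generic t e l hl
  rw [← cancel_epi e]
  exact congrArg (fun m : _ ⟶ M' => m.left) (equalizer.condition f' g')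

/-- The special fibre of an affine open. -/
theorem isReduced_quotient {X : Scheme.{u}} (f : X ⟶ Spec (CommRingCat.of R))
    [AlgebraicGeometry.IsReduced (pullback f (Spec.map (CommRingCat.ofHom (IsLocalRing.residue R))))]
    {A : Type u} [CommRing A] [Algebra R A] (j : Spec (CommRingCat.of A) ⟶ X) [IsOpenImmersion j]
    (hj : j ≫ f = Spec.map (CommRingCat.ofHom (algebraMap R A))) {ϖ : R} (hϖ : Irreducible ϖ) :
    _root_.IsReduced (A ⧸ Ideal.span {algebraMap R A ϖ}) := by
  let r : R →+* IsLocalRing.ResidueField R := IsLocalRing.residue R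
  let top : pullback (j ≫ f) (Spec.map (CommRingCat.ofHom r)) ⟶ pullback f (Spec.map (CommRingCat.ofHom r)) :=
    pullback.map _ _ _ _ j (𝟙 _) (𝟙 _) (by simp) (by simp)
  have hsq : IsPullback top (pullback.fst _ _) (pullback.fst f (Spec.map (CommRingCat.ofHom r))) j := by
    refine IsPullback.of_right ?_ (pullback.lift_fst _ _ _) (IsPullback.of_hasPullback f _).flip
    rw [show top ≫ pullback.snd f (Spec.map (CommRingCat.ofHom r)) = pullback.snd _ _ from
      (pullback.lift_snd _ _ _).trans (Category.comp_id _)]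
    exact (IsPullback.of_hasPullback (j ≫ f) _).flip
  haveI : IsOpenImmersion top := MorphismProperty.of_isPullback hsq.flip ‹IsOpenImmersion j›
  haveI : AlgebraicGeometry.IsReduced (pullback (j ≫ f) (Spec.map (CommRingCat.ofHom r))) :=
    isReduced_of_isOpenImmersion top
  let e : Spec (CommRingCat.of (A ⊗[R] IsLocalRing.ResidueField R)) ≅
      pullback (j ≫ f) (Spec.map (CommRingCat.ofHom r)) :=
    (pullbackSpecIso R A (IsLocalRing.ResidueField R)).symm ≪≫ pullback.congrHom hj.symm rfl
  haveI : AlgebraicGeometry.IsReduced (Spec (CommRingCat.of (A ⊗[R] IsLocalRing.ResidueField R))) :=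
    isReduced_of_isOpenImmersion e.hom
  haveI : _root_.IsReduced (A ⊗[R] IsLocalRing.ResidueField R) :=
    (affine_isReduced_iff (CommRingCat.of (A ⊗[R] IsLocalRing.ResidueField R))).1 ‹_›
  have hI : Ideal.span {algebraMap R A ϖ} = (IsLocalRing.maximalIdeal R).map (algebraMap R A) := by
    rw [hϖ.maximalIdeal_eq, Ideal.map_span, Set.image_singleton]
  rw [hI]
  haveI : _root_.IsReduced (A ⊗[R] (R ⧸ IsLocalRing.maximalIdeal R)) := ‹_root_.IsReduced (A ⊗[R] IsLocalRing.ResidueField R)›
  exact isReduced_of_injective (Algebra.TensorProduct.quotIdealMapEquivTensorQuot A (IsLocalRing.maximalIdeal R)).toRingEquiv.toRingHom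
    (Algebra.TensorProduct.quotIdealMapEquivTensorQuot A (IsLocalRing.maximalIdeal R)).injective

/-- A generic section of an integral morphism extends over an affine open. -/
theorem exists_local_section {X M : Scheme.{u}} (f : X ⟶ Spec (CommRingCat.of R)) [Flat f]
    [AlgebraicGeometry.IsReduced (pullback f (Spec.map (CommRingCat.ofHom (IsLocalRing.residue R))))]
    (m : M ⟶ X) [IsIntegralHom m] (σ0 : pullback f (eK R) ⟶ M) (h : σ0 ≫ m = pullback.fst _ _)
    {A : CommRingCat.{u}} (j : Spec A ⟶ X) [IsOpenImmersion j] :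
    ∃ σ : Spec A ⟶ M, σ ≫ m = j ∧
      pullback.fst (j ≫ f) (eK R) ≫ σ = pullback.map (j ≫ f) (eK R) f (eK R) j (𝟙 _) (𝟙 _) (by simp) (by simp) ≫ σ0 := by
  obtain ⟨φ, hφ⟩ := Spec.map_surjective (j ≫ f)
  letI : Algebra R A := φ.hom.toAlgebra
  have hjf : j ≫ f = Spec.map (CommRingCat.ofHom (algebraMap R A)) := hφ.symm
  haveI : Module.Flat R A := by
    have h1 : Flat (Spec.map φ) := by rw [hφ]; infer_instance
    exact RingHom.flat_algebraMap_iff.mp ((HasRingHomProperty.Spec_iff (P := @Flat)).mp h1)
  obtain ⟨ϖ, hϖ⟩ := IsDiscreteValuationRing.exists_irreducible R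
  let e : Spec (CommRingCat.of (AK R A)) ≅ pullback (j ≫ f) (eK R) :=
    (pullbackSpecIso R A (FractionRing R)).symm ≪≫ pullback.congrHom hjf.symm rfl
  have he : e.hom ≫ pullback.fst _ _ = Spec.map (CommRingCat.ofHom (inc R A)) := by
    simp only [e, Iso.trans_hom, Iso.symm_hom, Category.assoc, pullback.congrHom_hom, pullback.lift_fst]
    rw [Category.comp_id]
    exact pullbackSpecIso_inv_fst R A (FractionRing R)
  let μ0 : Spec (CommRingCat.of (AK R A)) ⟶ pullback m j :=
    pullback.lift (e.hom ≫ pullback.map (j ≫ f) (eK R) f (eK R) j (𝟙 _) (𝟙 _) (by simp) (by simp) ≫ σ0)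
      (Spec.map (CommRingCat.ofHom (inc R A))) (by
        simp only [Category.assoc, h, pullback.lift_fst]
        rw [← he, Category.assoc])
  haveI : IsAffine (pullback m j) := isAffine_of_isAffineHom (pullback.snd m j)
  let iso := (pullback m j).isoSpec
  obtain ⟨α, hα⟩ := Spec.map_surjective (iso.inv ≫ pullback.snd m j)
  obtain ⟨ψ, hψ⟩ := Spec.map_surjective (μ0 ≫ iso.hom)
  have hαψ : α ≫ ψ = CommRingCat.ofHom (inc R A) := by
    apply Spec.map_injective
    rw [Spec.map_comp, hψ, hα, Category.assoc, Iso.hom_inv_id_assoc, pullback.lift_snd]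
  haveI : IsIntegralHom (Spec.map α) := by rw [hα]; infer_instance
  have hint : α.hom.IsIntegral := IsIntegralHom.SpecMap_iff.1 ‹_›
  have hred := isReduced_quotient f j hjf hϖ
  have hmem : ∀ c, ψ.hom c ∈ Set.range (inc R A) := fun c => by
    refine mem_range_of_isIntegral R A hϖ hred _ ?_
    obtain ⟨P, hP, hPc⟩ := hint c
    refine ⟨P, hP, ?_⟩
    rw [show inc R A = ψ.hom.comp α.hom from (congrArg CommRingCat.Hom.hom hαψ).symm, ← Polynomial.hom_eval₂, hPc, map_zero]
  choose θ0 hθ0 using hmem
  let θ : Γ(pullback m j, ⊤) ⟶ A := CommRingCat.ofHom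
    { toFun := θ0
      map_one' := inc_injective R A (by rw [hθ0, map_one, map_one])
      map_zero' := inc_injective R A (by rw [hθ0, map_zero, map_zero])
      map_mul' := fun x y => inc_injective R A (by rw [hθ0, map_mul, map_mul, hθ0, hθ0])
      map_add' := fun x y => inc_injective R A (by rw [hθ0, map_add, map_add, hθ0, hθ0]) }
  have hθ : θ ≫ CommRingCat.ofHom (inc R A) = ψ := by ext c; exact hθ0 c
  have hαθ : α ≫ θ = 𝟙 A := by
    ext a
    exact inc_injective R A ((hθ0 _).trans (congr($hαψ a)))
  refine ⟨Spec.map θ ≫ iso.inv ≫ pullback.fst m j, ?_, ?_⟩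
  · simp only [Category.assoc]
    rw [pullback.condition, ← Category.assoc iso.inv, ← hα, ← Category.assoc, ← Spec.map_comp, hαθ, Spec.map_id,
      Category.id_comp]
  · rw [← cancel_epi e.hom, ← Category.assoc, he, ← Category.assoc, ← Spec.map_comp, hθ, hψ, Category.assoc,
      Iso.hom_inv_id_assoc, pullback.lift_fst]

/-- A generic section of an integral morphism extends when the special fibre is reduced. -/
theorem exists_section {X M : Scheme.{u}} (f : X ⟶ Spec (CommRingCat.of R)) [Flat f]
    [AlgebraicGeometry.IsReduced (pullback f (Spec.map (CommRingCat.ofHom (IsLocalRing.residue R))))]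
    (m : M ⟶ X) [IsIntegralHom m] (σ0 : pullback f (eK R) ⟶ M) (h : σ0 ≫ m = pullback.fst _ _) :
    ∃ σ : X ⟶ M, σ ≫ m = 𝟙 X ∧ pullback.fst f (eK R) ≫ σ = σ0 := by
  let 𝒰 := X.affineOpenCover
  choose σi hσm hσ0 using fun i => exists_local_section f m σ0 h (𝒰.f i)
  let gmap (i) := pullback.map (𝒰.f i ≫ f) (eK R) f (eK R) (𝒰.f i) (𝟙 _) (𝟙 _) (by simp) (by simp)
  have hcomp : ∀ i k, pullback.fst (𝒰.f i) (𝒰.f k) ≫ σi i = pullback.snd (𝒰.f i) (𝒰.f k) ≫ σi k := fun i k => by
    let T := pullback (𝒰.f i) (𝒰.f k)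
    let t : T ⟶ Spec (CommRingCat.of R) := pullback.fst (𝒰.f i) (𝒰.f k) ≫ 𝒰.f i ≫ f
    refine eq_of_generic t m _ _ (by rw [Category.assoc, Category.assoc, hσm, hσm, pullback.condition]) ?_
    let a : pullback t (eK R) ⟶ pullback (𝒰.f i ≫ f) (eK R) :=
      pullback.lift (pullback.fst _ _ ≫ pullback.fst _ _) (pullback.snd _ _) (by
        rw [Category.assoc]; exact pullback.condition)
    let b : pullback t (eK R) ⟶ pullback (𝒰.f k ≫ f) (eK R) :=
      pullback.lift (pullback.fst _ _ ≫ pullback.snd _ _) (pullback.snd _ _) (by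
        rw [Category.assoc, ← pullback.condition_assoc]; exact pullback.condition)
    have ha : pullback.fst t (eK R) ≫ pullback.fst (𝒰.f i) (𝒰.f k) = a ≫ pullback.fst _ _ :=
      (pullback.lift_fst _ _ _).symm
    have hb : pullback.fst t (eK R) ≫ pullback.snd (𝒰.f i) (𝒰.f k) = b ≫ pullback.fst _ _ :=
      (pullback.lift_fst _ _ _).symm
    rw [← Category.assoc, ha, ← Category.assoc, hb, Category.assoc, Category.assoc, hσ0, hσ0, ← Category.assoc,
      ← Category.assoc]
    congr 1
    apply pullback.hom_ext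
    · simp only [a, b, gmap, Category.assoc, pullback.lift_fst, pullback.lift_fst_assoc, pullback.condition]
    · simp only [a, b, gmap, Category.assoc, pullback.lift_snd, pullback.lift_snd_assoc]
  refine ⟨𝒰.openCover.glueMorphisms σi hcomp, Scheme.Cover.hom_ext 𝒰.openCover _ _ fun i => ?_, ?_⟩
  · rw [Scheme.Cover.ι_glueMorphisms_assoc]
    exact (hσm i).trans (Category.comp_id _).symm
  · refine Scheme.Cover.hom_ext (𝒰.openCover.pullback₁ (pullback.fst f (eK R))) _ _ fun i => ?_
    show pullback.fst (pullback.fst f (eK R)) (𝒰.f i) ≫ _ = pullback.fst (pullback.fst f (eK R)) (𝒰.f i) ≫ _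
    rw [← Category.assoc, pullback.condition, Category.assoc,
      show 𝒰.f i ≫ 𝒰.openCover.glueMorphisms σi hcomp = σi i from Scheme.Cover.ι_glueMorphisms 𝒰.openCover σi hcomp i]
    let c : pullback (pullback.fst f (eK R)) (𝒰.f i) ⟶ pullback (𝒰.f i ≫ f) (eK R) :=
      pullback.lift (pullback.snd _ _) (pullback.fst _ _ ≫ pullback.snd _ _) (by
        rw [← pullback.condition_assoc, Category.assoc, pullback.condition])
    have hc : c ≫ pullback.fst _ _ = pullback.snd (pullback.fst f (eK R)) (𝒰.f i) := pullback.lift_fst _ _ _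
    rw [← hc, Category.assoc, hσ0, ← Category.assoc]
    congr 1
    apply pullback.hom_ext
    · rw [Category.assoc, pullback.lift_fst, ← Category.assoc, hc]
      exact pullback.condition.symm
    · rw [Category.assoc, pullback.lift_snd, Category.comp_id]
      exact pullback.lift_snd _ _ _

end Groth.Agent.TorsClosure
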